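import Cfsg.Agent.Lib.CharClifford.Gallagher

/-! The Clifford correspondence between characters of the inertia group and of the whole group. -/

set_option autoImplicit false

namespace Cfsg.Agent.Lib.CharClifford

open Cfsg Cfsg.Agent.Lib.Char
open scoped ComplexConjugate

variable {G : Type*} [Group G] [Fintype G]
variable (N : Subgroup G) [hN : N.Normal] [Fintype N]

/-- In a group stabilising `θ`, a character over `θ` restricts to a multiple of `θ`. -/
theorem restrict_stabilized {θ : N → ℂ} (hθ : IsIrrCharacter N θ) (T : Subgroup G) [Fintype T]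
    (hNT : N ≤ T) (hT : ∀ t ∈ T, conjChar N t θ = θ) {ψ : T → ℂ} (hψ : IsIrrCharacter T ψ)
    (hover : classInner (resLe hNT ψ) θ ≠ 0) :
    resLe hNT ψ = classInner (resLe hNT ψ) θ • θ := by
  classical
  haveI : (N.subgroupOf T).Normal := hN.subgroupOf T
  haveI : Fintype (N.subgroupOf T) := Fintype.ofFinite _
  let e : N.subgroupOf T ≃* N := Subgroup.subgroupOfEquivOfLe hNT
  let θ' : N.subgroupOf T → ℂ := θ ∘ e
  have hθ' : IsIrrCharacter (N.subgroupOf T) θ' := isIrrCharacter_comp_equiv e hθ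
  have hres : (fun n : N.subgroupOf T => ψ n) = resLe hNT ψ ∘ e :=
    funext fun n => congrArg ψ (Subtype.ext rfl)
  have hin : classInner (fun n : N.subgroupOf T => ψ n) θ' = classInner (resLe hNT ψ) θ := by
    rw [hres, classInner_comp_equiv e]
  have hc := clifford (N.subgroupOf T) hψ hθ' (by rw [hin]; exact hover)
  have horb : orbit (N.subgroupOf T) θ' = {θ'} := by
    ext φ
    rw [mem_orbit, Finset.mem_singleton]
    constructor
    · rintro ⟨t, rfl⟩
      funext n
      have := congrFun (hT t t.2) (e n)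
      exact (congrArg θ (Subtype.ext rfl)).trans this
    · rintro rfl; exact ⟨1, conjChar_one _ _⟩
  rw [horb, Finset.sum_singleton, hin] at hc
  funext n
  have := congrFun hc (e.symm n)
  simp only [θ', Pi.smul_apply, Function.comp_apply, MulEquiv.apply_symm_apply] at this
  exact (congrArg ψ (Subtype.ext rfl)).trans this

/-- The Clifford correspondence. -/
theorem correspondence {θ : N → ℂ} (hθ : IsIrrCharacter N θ) (T : Subgroup G) [Fintype T]
    (hT : inertia N θ = T) (hNT : N ≤ T) {χ : G → ℂ} (hχ : IsIrrCharacter G χ) {ψ : T → ℂ}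
    (hψ : IsIrrCharacter T ψ) (hover : classInner (resLe hNT ψ) θ ≠ 0)
    (hcon : classInner (fun t : T => χ t) ψ ≠ 0) :
    indFun T ψ = χ ∧ classInner (resLe hNT ψ) θ = classInner (fun n : N => χ n) θ ∧
      ∀ ψ' : T → ℂ, IsIrrCharacter T ψ' → classInner (resLe hNT ψ') θ ≠ 0 →
        classInner (fun t : T => χ t) ψ' ≠ 0 → ψ' = ψ := by
  classical
  have hstab : ∀ t ∈ T, conjChar N t θ = θ := fun t ht => by rw [← mem_inertia, hT]; exact ht
  have hχT : IsCharacter T (fun t : T => χ t) := isCharacter_restrict (isCharacter_of_isIrr hχ) T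
  obtain ⟨m, hm⟩ := isCharacter_eq_sum hχT
  have hres : ∀ φ : T → ℂ, IsCharacter T φ → IsCharacter N (resLe hNT φ) := fun φ h =>
    isCharacter_comp h (Subgroup.inclusion hNT)
  choose f hf using fun φ : IrrCharacter T =>
    classInner_natCast (hres _ (isCharacter_of_isIrr φ.2)) (isCharacter_of_isIrr hθ)
  have hm' : ∀ φ : IrrCharacter T, classInner (fun t : T => χ t) φ = (m φ : ℂ) := by
    intro φ
    rw [hm, classInner_sum_left, Finset.sum_eq_single φ]
    · rw [classInner_smul_left, classInner_irr_self φ.2, mul_one]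
    · intro γ _ hγ
      rw [classInner_smul_left, classInner_irrCharacter, if_neg hγ, mul_zero]
    · intro h; exact absurd (Finset.mem_univ φ) h
  have hsum : classInner (fun n : N => χ n) θ = ∑ φ : IrrCharacter T, (m φ : ℂ) * (f φ : ℂ) := by
    have : (fun n : N => χ n) = ∑ φ : IrrCharacter T, (m φ : ℂ) • resLe hNT (φ : T → ℂ) := by
      funext n
      have := congrFun hm ⟨n, hNT n.2⟩
      simp only [Finset.sum_apply, Pi.smul_apply] at this ⊢
      exact this
    rw [this, classInner_sum_left]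
    exact Finset.sum_congr rfl fun φ _ => by rw [classInner_smul_left, hf]
  obtain ⟨e, he⟩ := classInner_natCast (isCharacter_restrict (isCharacter_of_isIrr hχ) N)
    (isCharacter_of_isIrr hθ)
  have hsumN : e = ∑ φ : IrrCharacter T, m φ * f φ := by
    have := he.symm.trans hsum
    exact_mod_cast this
  set Ψ : IrrCharacter T := ⟨ψ, hψ⟩ with hΨ
  have hmΨ : m Ψ ≠ 0 := fun h0 => hcon ((hm' Ψ).trans (by rw [h0, Nat.cast_zero]))
  have hfΨ : f Ψ ≠ 0 := fun h0 => hover ((hf Ψ).trans (by rw [h0, Nat.cast_zero]))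
  have hle : m Ψ * f Ψ ≤ e := hsumN ▸ Finset.single_le_sum (f := fun φ => m φ * f φ)
    (fun _ _ => Nat.zero_le _) (Finset.mem_univ Ψ)
  have hne : classInner (fun n : N => χ n) θ ≠ 0 := by
    rw [he]
    have h1 : 0 < m Ψ * f Ψ := Nat.mul_pos (Nat.pos_of_ne_zero hmΨ) (Nat.pos_of_ne_zero hfΨ)
    exact Nat.cast_ne_zero.mpr (by omega)
  obtain ⟨d, hd⟩ := exists_natDegree (isCharacter_of_isIrr hθ)
  have hd0 : d ≠ 0 := fun h0 => irr_degree_ne_zero hθ (by rw [hd, h0, Nat.cast_zero])
  have hχ1 : χ 1 = ((e * T.index * d : ℕ) : ℂ) := by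
    rw [clifford_degree N hχ hθ hne, he, hT, hd]; push_cast; ring
  have hψ1 : ψ 1 = ((f Ψ * d : ℕ) : ℂ) := by
    have := congrFun (restrict_stabilized N hθ T hNT hstab hψ hover) 1
    rw [hf Ψ] at this
    rw [show ψ 1 = resLe hNT ψ 1 from rfl, this, Pi.smul_apply, hd, Nat.cast_mul]
    rfl
  have hindc : IsCharacter G (indFun T ψ) := isCharacter_indFun T (isCharacter_of_isIrr hψ)
  obtain ⟨b, hb⟩ := isCharacter_eq_sum hindc
  set X : IrrCharacter G := ⟨χ, hχ⟩
  have hbX : b X ≠ 0 := by
    have h1 : classInner (indFun T ψ) χ ≠ 0 := by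
      rw [classInner_indFun T ψ (isClassFunction_of_isIrr hχ), classInner_conj_symm]
      exact (map_ne_zero _).mpr hcon
    intro h0
    apply h1
    rw [hb, classInner_sum_left]
    refine Finset.sum_eq_zero fun φ _ => ?_
    rw [classInner_smul_left, classInner_irr φ.2 hχ]
    split_ifs with h
    · rw [show φ = X from Subtype.ext h, h0, Nat.cast_zero, zero_mul]
    · rw [mul_zero]
  choose deg hdeg using fun φ : IrrCharacter G => exists_natDegree (isCharacter_of_isIrr φ.2)
  have hdegsum : T.index * (f Ψ * d) = ∑ φ, b φ * deg φ := by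
    have h1 := congrFun hb 1
    rw [indFun_one, hψ1, Finset.sum_apply] at h1
    simp only [Pi.smul_apply, smul_eq_mul, hdeg] at h1
    exact_mod_cast h1
  have hdegX : deg X = e * T.index * d := by
    have := (hdeg X).symm.trans hχ1
    exact_mod_cast this
  have hge : b X * deg X ≤ T.index * (f Ψ * d) := hdegsum ▸ Finset.single_le_sum
    (f := fun φ => b φ * deg φ) (fun _ _ => Nat.zero_le _) (Finset.mem_univ X)
  have hTi : 0 < T.index := Nat.pos_of_ne_zero Subgroup.index_ne_zero_of_finite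
  have hef : e ≤ f Ψ := by
    have h2 : deg X ≤ T.index * (f Ψ * d) :=
      le_trans (Nat.le_mul_of_pos_left _ (Nat.pos_of_ne_zero hbX)) hge
    rw [hdegX] at h2
    exact Nat.le_of_mul_le_mul_right (a := e) (b := f Ψ) (c := T.index * d) (by
      calc e * (T.index * d) = e * T.index * d := by ring
        _ ≤ T.index * (f Ψ * d) := h2
        _ = f Ψ * (T.index * d) := by ring) (Nat.mul_pos hTi (Nat.pos_of_ne_zero hd0))
  have hmf : e = f Ψ ∧ m Ψ = 1 := by
    have h1 : f Ψ ≤ m Ψ * f Ψ := Nat.le_mul_of_pos_left _ (Nat.pos_of_ne_zero hmΨ)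
    refine ⟨by omega, ?_⟩
    have h2 : m Ψ * f Ψ = 1 * f Ψ := by omega
    exact mul_right_cancel₀ hfΨ h2
  refine ⟨?_, ?_, ?_⟩
  · refine eq_of_sub_character ?_ ?_
    · obtain ⟨c, hc⟩ : ∃ c, IsCharacter G c ∧ indFun T ψ = χ + c := by
        refine ⟨∑ φ, ((if φ = X then b φ - 1 else b φ : ℕ) : ℂ) • (φ : G → ℂ), ?_, ?_⟩
        · exact isCharacter_sum _ _ fun φ _ => by
            rw [Nat.cast_smul_eq_nsmul]; exact isCharacter_nsmul (isCharacter_of_isIrr φ.2) _
        · rw [hb, ← Finset.add_sum_erase _ _ (Finset.mem_univ X),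
            ← Finset.add_sum_erase _ _ (Finset.mem_univ X), if_pos rfl, ← add_assoc]
          congr 1
          · rw [show (χ : G → ℂ) = (X : G → ℂ) from rfl, Nat.cast_sub (Nat.one_le_iff_ne_zero.mpr hbX),
              sub_smul, Nat.cast_one, one_smul]
            abel
          · exact Finset.sum_congr rfl fun φ hφ => by rw [if_neg (Finset.ne_of_mem_erase hφ)]
      rw [hc.2, add_sub_cancel_left]; exact hc.1
    · rw [indFun_one, hψ1, hχ1, hmf.1]; push_cast; ring
  · rw [show classInner (resLe hNT ψ) θ = _ from hf Ψ, he, hmf.1]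
  · intro ψ' hψ' hover' hcon'
    by_contra hne'
    set Ψ' : IrrCharacter T := ⟨ψ', hψ'⟩
    have hm1 : 0 < m Ψ' := Nat.pos_of_ne_zero fun h0 => hcon' ((hm' Ψ').trans (by rw [h0, Nat.cast_zero]))
    have hf1 : 0 < f Ψ' := Nat.pos_of_ne_zero fun h0 => hover' ((hf Ψ').trans (by rw [h0, Nat.cast_zero]))
    have h2 : m Ψ * f Ψ + m Ψ' * f Ψ' ≤ e := by
      rw [hsumN, ← Finset.add_sum_erase _ _ (Finset.mem_univ Ψ)]
      exact Nat.add_le_add_left (Finset.single_le_sum (f := fun φ => m φ * f φ)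
        (fun _ _ => Nat.zero_le _)
        (Finset.mem_erase.mpr ⟨fun h => hne' (congrArg Subtype.val h), Finset.mem_univ Ψ'⟩)) _
    rw [hmf.2, hmf.1] at h2
    have h4 := Nat.mul_pos hm1 hf1
    omega

/-- Every character over `θ` comes from a character of the inertia group over `θ`. -/
theorem exists_correspondent {θ : N → ℂ} (hθ : IsIrrCharacter N θ) (T : Subgroup G) [Fintype T]
    (hT : inertia N θ = T) (hNT : N ≤ T) {χ : G → ℂ} (hχ : IsIrrCharacter G χ)
    (hcon : classInner (fun n : N => χ n) θ ≠ 0) :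
    ∃ ψ : T → ℂ, IsIrrCharacter T ψ ∧ indFun T ψ = χ ∧
      classInner (resLe hNT ψ) θ = classInner (fun n : N => χ n) θ ∧
      classInner (fun t : T => χ t) ψ ≠ 0 := by
  classical
  obtain ⟨m, hm⟩ := isCharacter_eq_sum (isCharacter_restrict (isCharacter_of_isIrr hχ) T)
  have hres : (fun n : N => χ n) = ∑ φ : IrrCharacter T, (m φ : ℂ) • resLe hNT (φ : T → ℂ) := by
    funext n
    have := congrFun hm ⟨n, hNT n.2⟩
    simp only [Finset.sum_apply, Pi.smul_apply] at this ⊢
    exact this
  have hcon' := hcon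
  rw [hres, classInner_sum_left] at hcon'
  obtain ⟨φ, -, hφ⟩ := Finset.exists_ne_zero_of_sum_ne_zero hcon'
  rw [classInner_smul_left] at hφ
  have hc : classInner (fun t : T => χ t) φ ≠ 0 := by
    rw [hm, classInner_sum_left, Finset.sum_eq_single φ]
    · rw [classInner_smul_left, classInner_irr_self φ.2, mul_one]; exact left_ne_zero_of_mul hφ
    · intro γ _ hγ
      rw [classInner_smul_left, classInner_irrCharacter, if_neg hγ, mul_zero]
    · intro h; exact absurd (Finset.mem_univ φ) h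
  obtain ⟨h1, h2, -⟩ := correspondence N hθ T hT hNT hχ φ.2 (right_ne_zero_of_mul hφ) hc
  exact ⟨φ, φ.2, h1, h2, hc⟩

/-- Induction from the inertia group is irreducible and injective on characters over `θ`. -/
theorem indFun_correspondent {θ : N → ℂ} (hθ : IsIrrCharacter N θ) (T : Subgroup G) [Fintype T]
    (hT : inertia N θ = T) (hNT : N ≤ T) {ψ : T → ℂ} (hψ : IsIrrCharacter T ψ)
    (hover : classInner (resLe hNT ψ) θ ≠ 0) :
    IsIrrCharacter G (indFun T ψ) ∧ ∀ ψ' : T → ℂ, IsIrrCharacter T ψ' →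
      classInner (resLe hNT ψ') θ ≠ 0 → indFun T ψ' = indFun T ψ → ψ' = ψ := by
  have h0 : indFun T ψ ≠ 0 := by
    intro h
    have h1 := congrFun h 1
    rw [indFun_one, Pi.zero_apply] at h1
    exact mul_ne_zero (Nat.cast_ne_zero.mpr Subgroup.index_ne_zero_of_finite) (irr_degree_ne_zero hψ) h1
  obtain ⟨χ, hχ⟩ := exists_constituent (isCharacter_indFun T (isCharacter_of_isIrr hψ)) h0
  have hcon : ∀ φ : T → ℂ, classInner (indFun T φ) (χ : G → ℂ) ≠ 0 →
      classInner (fun t : T => (χ : G → ℂ) t) φ ≠ 0 := by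
    intro φ hne
    rw [classInner_indFun T φ (isClassFunction_of_isIrr χ.2), classInner_conj_symm] at hne
    exact (map_ne_zero _).mp hne
  obtain ⟨h1, -, h3⟩ := correspondence N hθ T hT hNT χ.2 hψ hover (hcon ψ hχ)
  refine ⟨h1.symm ▸ χ.2, fun ψ' hψ' hover' he => h3 ψ' hψ' hover' (hcon ψ' ?_)⟩
  rw [he]
  exact hχ

end Cfsg.Agent.Lib.CharClifford
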