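import Cfsg.Agent.Lib.CharClifford.Extend
import Cfsg.Agent.Lib.CharClifford.Correspondence
import Cfsg.Agent.Lib.Char.Integral

/-! An irreducible degree divides the index of a subgroup acting by scalars; `χ(1)/θ(1)` divides the index. -/

set_option autoImplicit false

namespace Cfsg.Agent.Lib.CharClifford

open Cfsg Cfsg.Agent.Lib.Char
open scoped ComplexConjugate

theorem degree_dvd_index_of_faithful {Γ : Type*} [Group Γ] [Finite Γ] {β : Γ → ℂ}
    (hβ : IsIrrCharacter Γ β) {e : ℕ} (he : β 1 = e) (hf : ∀ g, β g = β 1 → g = 1) (Z : Subgroup Γ)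
    (hZ : ∀ z ∈ Z, ‖β z‖ = ‖β 1‖) : e ∣ Z.index := by
  classical
  haveI := Fintype.ofFinite Γ
  have hirr := hβ
  obtain ⟨k, ρ, hρ, rfl⟩ := hβ
  have hek : e = k := by
    rw [Representation.char_one, Module.finrank_fin_fun] at he
    exact_mod_cast he.symm
  subst hek
  have he0 : e ≠ 0 := fun h => irr_degree_ne_zero hirr (by rw [he, h, Nat.cast_zero])
  have hscal : ∀ z ∈ Z, ∃ c : ℂ, ρ z = c • 1 ∧ ‖c‖ = 1 := by
    intro z hz
    have hn := hZ z hz
    rw [he, Complex.norm_natCast] at hn
    refine ⟨_, apply_eq_smul_of_norm_eq ρ z (by rw [Module.finrank_fin_fun]; exact hn), ?_⟩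
    rw [norm_div, Complex.norm_natCast, hn, Module.finrank_fin_fun, div_self (Nat.cast_ne_zero.mpr he0)]
  choose c hc hc1 using hscal
  have hmulρ : ∀ (z : Γ) (hz : z ∈ Z) (g : Γ), ρ.character (z * g) = c z hz * ρ.character g := by
    intro z hz g
    simp [Representation.character, map_mul, hc z hz]
  have hker : ∀ g, ρ g = 1 → g = 1 := fun g hg =>
    hf g (by rw [(character_eq_degree_iff ρ g).mpr hg, Representation.char_one])
  have hcentral : ∀ z ∈ Z, ∀ g, z * g = g * z := by
    intro z hz g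
    have : ρ (z * g * z⁻¹ * g⁻¹) = 1 := by
      rw [map_mul, map_mul, map_mul, hc z hz]
      simp only [smul_mul_assoc, one_mul, mul_smul_comm]
      rw [show c z hz • (ρ g * ρ z⁻¹ * ρ g⁻¹) = ρ g * (c z hz • ρ z⁻¹) * ρ g⁻¹ by
        simp only [mul_smul_comm, smul_mul_assoc]]
      have h1 : c z hz • ρ z⁻¹ = 1 := by
        rw [← one_mul (ρ z⁻¹), ← smul_mul_assoc, ← hc z hz, ← map_mul, mul_inv_cancel, map_one]
      rw [h1, mul_one, ← map_mul, mul_inv_cancel, map_one]
    have h2 := hker _ this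
    rwa [mul_inv_eq_one, mul_inv_eq_iff_eq_mul] at h2
  haveI : Z.Normal := ⟨fun z hz g => by rw [← hcentral z hz g, mul_inv_cancel_right]; exact hz⟩
  let r : Γ → Γ := fun g => (ConjClasses.mk (g : Γ ⧸ Z)).out.out
  let T : Set Γ := {g | IsConj g (r g)}
  let f : Γ → ℂ := fun g => if g ∈ T then conj (ρ.character g) else 0
  have hr : ∀ g h, r (h * g * h⁻¹) = r g := by
    intro g h
    simp only [r]
    congr 2
    refine ConjClasses.mk_eq_mk_iff_isConj.mpr (isConj_iff.mpr ⟨(h : Γ ⧸ Z)⁻¹, ?_⟩)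
    simp [QuotientGroup.mk_mul, mul_assoc]
  have hrz : ∀ z ∈ Z, ∀ g, r (z * g) = r g := by
    intro z hz g
    simp only [r]
    congr 2
    rw [QuotientGroup.mk_mul, (QuotientGroup.eq_one_iff z).mpr hz, one_mul]
  have hfcl : IsClassFunction Γ f := by
    intro g h
    have hiff : h * g * h⁻¹ ∈ T ↔ g ∈ T := by
      simp only [T, Set.mem_ofPred_eq, hr]
      have hc' : IsConj g (h * g * h⁻¹) := isConj_iff.mpr ⟨h, rfl⟩
      exact ⟨fun hh => hc'.trans hh, fun hh => hc'.symm.trans hh⟩
    simp only [f, hiff, Representation.char_conj]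
  have hfint : ∀ g, IsIntegral ℤ (f g) := by
    intro g
    simp only [f]
    split_ifs
    · rw [← character_inv]; exact isIntegral_character ρ _
    · exact isIntegral_zero
  have hsum : (Nat.card Z : ℂ) * ∑ g, f g * ρ.character g = (Nat.card Γ : ℂ) := by
    have h1 : classInner ρ.character ρ.character = 1 := classInner_irr_self hirr
    rw [classInner, inv_mul_eq_one₀ (card_ne_zero_complex Γ)] at h1
    rw [h1, Nat.card_eq_fintype_card, ← nsmul_eq_mul, ← Finset.card_univ, ← Finset.sum_const,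
      ← Finset.sum_product']
    refine Finset.sum_bij_ne_zero (fun p _ _ => (p.1 : Γ) * p.2) (fun _ _ _ => Finset.mem_univ _) ?_ ?_ ?_
    · rintro ⟨z, g⟩ _ hne ⟨z', g'⟩ _ hne' heq
      have hgT : g ∈ T := by by_contra h; simp [f, h] at hne
      have hgT' : g' ∈ T := by by_contra h; simp [f, h] at hne'
      have hβg : ρ.character g ≠ 0 := fun h => hne (by simp [h])
      simp only at heq
      have hg' : g' = ((z' : Γ)⁻¹ * z) * g := by rw [mul_assoc, heq, inv_mul_cancel_left]
      have hw : ((z' : Γ)⁻¹ * z) ∈ Z := mul_mem (inv_mem z'.2) z.2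
      have hconj : IsConj g g' := by
        have hgT'' : IsConj g' (r g) := by
          have h2 : r g' = r g := by rw [hg', hrz _ hw]
          rw [← h2]; exact hgT'
        exact IsConj.trans hgT hgT''.symm
      obtain ⟨x, hx⟩ := isConj_iff.mp hconj
      have h1' : ρ.character g' = ρ.character g := by rw [← hx, Representation.char_conj]
      rw [hg', hmulρ _ hw] at h1'
      have hc11 : c _ hw = 1 := (mul_left_eq_self₀.mp h1').resolve_right hβg
      have hw1 : (z' : Γ)⁻¹ * z = 1 := hker _ (by rw [hc _ hw, hc11, one_smul])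
      exact Prod.ext (Subtype.ext (inv_mul_eq_one.mp hw1).symm) (by rw [hg', hw1, one_mul])
    · intro g _ hne
      have hconjq : IsConj (g : Γ ⧸ Z) ((r g : Γ) : Γ ⧸ Z) := by
        simp only [r, QuotientGroup.out_eq']
        exact ConjClasses.mk_eq_mk_iff_isConj.mp (Quotient.out_eq _).symm
      obtain ⟨q, hq⟩ := isConj_iff.mp hconjq
      obtain ⟨x, rfl⟩ := QuotientGroup.mk_surjective q
      set z : Γ := (r g)⁻¹ * (x * g * x⁻¹) with hz
      have hzZ : z ∈ Z := by
        apply QuotientGroup.eq.mp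
        rw [← hq]; simp [QuotientGroup.mk_mul]
      have hgT : z⁻¹ * g ∈ T := by
        show IsConj (z⁻¹ * g) (r (z⁻¹ * g))
        rw [hrz _ (inv_mem hzZ), isConj_iff]
        refine ⟨x, ?_⟩
        rw [← mul_assoc, ← hcentral z⁻¹ (inv_mem hzZ) x, mul_assoc, mul_assoc,
          hcentral z⁻¹ (inv_mem hzZ), hz, mul_inv_rev, inv_inv]
        group
      have hchar : ρ.character (z⁻¹ * g) ≠ 0 := by
        rw [hmulρ _ (inv_mem hzZ)]
        refine mul_ne_zero ?_ (left_ne_zero_of_mul hne)
        intro h0; have := hc1 _ (inv_mem hzZ); rw [h0, norm_zero] at this; exact zero_ne_one this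
      refine ⟨(⟨z, hzZ⟩, z⁻¹ * g), Finset.mem_product.mpr ⟨Finset.mem_univ _, Finset.mem_univ _⟩, ?_,
        by simp⟩
      simp only [f, hgT, if_true]
      exact mul_ne_zero ((map_ne_zero _).mpr hchar) hchar
    · rintro ⟨z, g⟩ _ hne
      have hgT : g ∈ T := by by_contra h; simp [f, h] at hne
      simp only [f, hgT, if_true]
      rw [hmulρ _ z.2, map_mul, mul_mul_mul_comm, Complex.mul_conj', hc1, Complex.ofReal_one, one_pow,
        one_mul, mul_comm]
  have hint := isIntegral_sum_mul_div hirr hfcl hfint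
  rw [he] at hint
  refine dvd_of_isIntegral_div he0 ?_
  have hne : (Nat.card Z : ℂ) ≠ 0 := card_ne_zero_complex Z
  have : ∑ g, f g * ρ.character g = (Z.index : ℂ) := by
    apply mul_left_cancel₀ hne
    rw [hsum, ← Nat.cast_mul, Subgroup.card_mul_index]
  rwa [this] at hint

/-- The degree of an irreducible character divides the index of a subgroup on which it is scalar. -/
theorem degree_dvd_index_of_scalar {Γ : Type*} [Group Γ] [Finite Γ] {β : Γ → ℂ}
    (hβ : IsIrrCharacter Γ β) {e : ℕ} (he : β 1 = e) (M : Subgroup Γ)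
    (hM : ∀ m ∈ M, ‖β m‖ = ‖β 1‖) : e ∣ M.index := by
  have hc := isCharacter_of_isIrr hβ
  haveI := charKer_normal hc
  obtain ⟨ψ, hψ, hψe⟩ := exists_irr_deflation hβ (charKer β) (fun n hn => (mem_charKer hc).mp hn)
  refine (degree_dvd_index_of_faithful hψ (e := e) ?_ ?_ (M.map (QuotientGroup.mk' (charKer β))) ?_).trans
    (Subgroup.index_map_dvd M (QuotientGroup.mk'_surjective _))
  · rw [← QuotientGroup.mk_one, hψe, he]
  · intro g hg
    induction g using QuotientGroup.induction_on with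
    | _ g =>
      rw [hψe, ← QuotientGroup.mk_one, hψe] at hg
      exact (QuotientGroup.eq_one_iff g).mpr ((mem_charKer hc).mpr hg)
  · rintro _ ⟨m, hm, rfl⟩
    rw [QuotientGroup.mk'_apply, hψe, ← QuotientGroup.mk_one, hψe]
    exact hM m hm

variable {G : Type*} [Group G] [Finite G]

/-- The ramification of an invariant character divides the index. -/
theorem ramification_dvd_index (N : Subgroup G) [N.Normal] {χ : G → ℂ} (hχ : IsIrrCharacter G χ)
    {θ : N → ℂ} (hθ : IsIrrCharacter N θ) (e : ℕ) (he : ∀ n : N, χ n = e * θ n) : e ∣ N.index := by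
  obtain ⟨d, ρ, hρ, rfl⟩ := hθ
  haveI := hρ
  haveI := Fintype.ofFinite G
  have he0 : (e : ℂ) ≠ 0 := fun h0 => irr_degree_ne_zero hχ ((he 1).trans (by rw [h0, zero_mul]))
  have hinv : ∀ (g : G) (n : N), ρ.character (MulAut.conjNormal g n) = ρ.character n := by
    intro g n
    apply mul_left_cancel₀ he0
    rw [← he, ← he, MulAut.conjNormal_apply]
    exact isClassFunction_of_isIrr hχ _ _
  haveI := finite_liftGroup ρ
  haveI := Fintype.ofFinite (liftGroup ρ)
  obtain ⟨ν, hν, -, hidx⟩ := exists_baseScalar ρ hinv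
  let Nh : Subgroup (liftGroup ρ) := (emb ρ).range
  haveI : Nh.Normal := ⟨fun x hx δ => by
    obtain ⟨n, rfl⟩ := hx
    refine ⟨MulAut.conjNormal (proj ρ δ) n, liftGroup_ext ρ ?_ ?_⟩
    · rw [proj_emb, map_mul, map_mul, map_inv, proj_emb, MulAut.conjNormal_apply]
    · rw [liftRep_emb, map_mul, map_mul, liftRep_emb, liftRep_comm, mul_assoc, ← map_mul, mul_inv_cancel,
        map_one, mul_one]⟩
  haveI := Fintype.ofFinite Nh
  haveI := Fintype.ofFinite N
  let η := (liftRep ρ).character
  haveI := liftRep_irreducible ρ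
  have hinj : Function.Injective (emb ρ) := fun a b h => Subtype.ext (congrArg (proj ρ) h :)
  let E : N ≃* Nh := MonoidHom.ofInjective hinj
  have hE : ∀ n, ((E n : Nh) : liftGroup ρ) = emb ρ n := fun n => rfl
  let θ' : Nh → ℂ := fun m => η m
  have hθ' : IsIrrCharacter Nh θ' := by
    have : θ' = ρ.character ∘ E.symm := funext fun m => by
      conv_lhs => rw [← E.apply_symm_apply m]
      rfl
    rw [this]
    exact isIrrCharacter_comp_equiv E.symm (isIrrCharacter_character ρ)
  have hξ : IsIrrCharacter (liftGroup ρ) (χ ∘ proj ρ) := isIrrCharacter_comp hχ _ (proj_surjective ρ hinv)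
  obtain ⟨β, hβ, hβN, hprod⟩ := gallagher_exists Nh hθ' (isCharacter_character (liftRep ρ)) (fun m => rfl)
    hξ (by
      rw [← classInner_comp_equiv E]
      have h1 : (fun m : Nh => (χ ∘ proj ρ) m) ∘ E = (e : ℂ) • ρ.character := funext fun n => by
        simp [hE, proj_emb, he]
      have h2 : θ' ∘ E = ρ.character := funext fun n => rfl
      rw [h1, h2, classInner_smul_left, classInner_irr_self (isIrrCharacter_character ρ), mul_one]
      exact he0)
  have hd : (d : ℂ) ≠ 0 := Nat.cast_ne_zero.mpr (d_pos ρ).ne'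
  have hβ1 : β 1 = e := by
    have h1 := congrFun hprod 1
    have h2 : χ 1 = e * ρ.character 1 := he 1
    simp only [Function.comp_apply, map_one, Pi.mul_apply, h2, Representation.char_one,
      Module.finrank_fin_fun] at h1
    exact (mul_right_cancel₀ hd h1).symm
  rw [← hidx]
  refine degree_dvd_index_of_scalar hβ hβ1 _ fun m hm => ?_
  set n : N := ⟨proj ρ m, hm⟩
  set z : liftGroup ρ := (emb ρ n)⁻¹ * m with hz
  have hpz : proj ρ z = 1 := by rw [hz, map_mul, map_inv, proj_emb, inv_mul_cancel]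
  have hzM : z ∈ N.comap (proj ρ) := by rw [Subgroup.mem_comap, hpz]; exact N.one_mem
  have hβm : β m = β z := by
    have h1 := (char_mul_of_eq_one (isCharacter_of_isIrr hβ) (k := emb ρ n) (hβN ⟨_, n, rfl⟩) z).1
    rwa [hz, mul_inv_cancel_left] at h1
  rw [hβm, hβ1]
  have h2 := congrFun hprod z
  simp only [Function.comp_apply, hpz, Pi.mul_apply] at h2
  have h3 : χ 1 = e * (d : ℂ) := by
    have := he 1
    simpa using this
  have h4 : (liftRep ρ).character z = (ν ⟨z, hzM⟩ : ℂ) * (d : ℂ) := by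
    show LinearMap.trace ℂ _ (liftRep ρ z) = _
    rw [hν ⟨z, hzM⟩, show (⟨proj ρ z, hzM⟩ : N) = 1 from Subtype.ext hpz, map_one, map_smul,
      LinearMap.trace_one, Module.finrank_fin_fun, smul_eq_mul]
  rw [h3, h4, ← mul_assoc] at h2
  have h5 := mul_right_cancel₀ hd h2
  have hnorm : ‖(ν ⟨z, hzM⟩ : ℂ)‖ = 1 := by
    refine Complex.norm_eq_one_of_pow_eq_one (n := orderOf (⟨z, hzM⟩ : N.comap (proj ρ))) ?_
      (orderOf_pos _).ne'
    rw [← Units.val_pow_eq_pow_val, ← map_pow, pow_orderOf_eq_one, map_one, Units.val_one]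
  rw [h5, norm_mul, hnorm, mul_one]

end Cfsg.Agent.Lib.CharClifford
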