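import Cfsg.Agent.Lib.Coprime.Action
import Cfsg.Agent.Lib.Char.Clifford
import Cfsg.Agent.Lib.Char.BrauerPerm
import Mathlib.Tactic

/-! Classes and irreducible characters of a normal subgroup fixed by an element of coprime order. -/

set_option autoImplicit false

namespace Cfsg.Agent.Lib.CharClifford

open Cfsg Cfsg.Agent.Lib.Char
open scoped Pointwise

universe u

variable {G : Type u} [Group G] [Finite G] (H : Subgroup G) [H.Normal]

/-- An element acting coprimely and fixing a class of `H` centralises a member of that class. -/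
theorem exists_commute_of_fixed_class {x : G} (hx : Nat.Coprime (orderOf x) (Nat.card H))
    {h k : G} (hk : k ∈ H) (he : x * h * x⁻¹ = k * h * k⁻¹) :
    ∃ n ∈ H, Commute x (n⁻¹ * h * n) := by
  set A := Subgroup.zpowers x with hA
  have hAH : A ≤ Subgroup.normalizer (H : Set G) := by
    rw [Subgroup.normalizer_eq_top]; exact le_top
  have hcop : (Nat.card A).Coprime (Nat.card H) := by rw [hA, Nat.card_zpowers]; exact hx
  set y := k⁻¹ * x with hy
  have hyh : Commute y h := by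
    show k⁻¹ * x * h = h * (k⁻¹ * x)
    calc k⁻¹ * x * h = k⁻¹ * (x * h * x⁻¹) * x := by group
      _ = h * (k⁻¹ * x) := by rw [he]; group
  obtain ⟨a, ha1, ha0⟩ := Nat.chineseRemainder hx 1 0
  set z := y ^ a with hz
  have hzmem : z ∈ A ⊔ H := pow_mem
    (mul_mem (Subgroup.mem_sup_right (H.inv_mem hk)) (Subgroup.mem_sup_left (Subgroup.mem_zpowers x))) a
  have hq : (z : G ⧸ H) = (x : G ⧸ H) := by
    rw [hz, QuotientGroup.mk_pow, hy, QuotientGroup.mk_mul, QuotientGroup.mk_inv,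
      (QuotientGroup.eq_one_iff k).mpr hk, inv_one, one_mul, ← QuotientGroup.mk_pow]
    congr 1
    have := (pow_eq_pow_iff_modEq (x := x)).mpr ha1
    rwa [pow_one] at this
  have hzx : z ^ orderOf x = 1 := by
    have h1 : y ^ orderOf x ∈ H := by
      rw [← QuotientGroup.eq_one_iff, QuotientGroup.mk_pow, hy, QuotientGroup.mk_mul,
        QuotientGroup.mk_inv, (QuotientGroup.eq_one_iff k).mpr hk, inv_one, one_mul,
        ← QuotientGroup.mk_pow, pow_orderOf_eq_one, QuotientGroup.mk_one]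
    rw [hz, ← pow_mul, mul_comm, pow_mul]
    exact orderOf_dvd_iff_pow_eq_one.mp
      ((Subgroup.orderOf_dvd_natCard _ h1).trans (Nat.modEq_zero_iff_dvd.mp ha0))
  have hcard : Nat.card (Subgroup.zpowers z) = Nat.card A := by
    rw [hA, Nat.card_zpowers, Nat.card_zpowers]
    refine Nat.dvd_antisymm (orderOf_dvd_of_pow_eq_one hzx) ?_
    have h2 : x ^ orderOf z ∈ A ⊓ H := by
      refine ⟨pow_mem (Subgroup.mem_zpowers x) _, ?_⟩
      show x ^ orderOf z ∈ H
      rw [← QuotientGroup.eq_one_iff, QuotientGroup.mk_pow, ← hq,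
        ← QuotientGroup.mk_pow, pow_orderOf_eq_one, QuotientGroup.mk_one]
    rw [Coprime.inf_eq_bot_of_coprime hcop, Subgroup.mem_bot] at h2
    exact orderOf_dvd_of_pow_eq_one h2
  obtain ⟨n, hn, hnA⟩ := Coprime.exists_conj_eq_of_le_sup hAH hcop
    (Or.inl (Group.isSolvable_of_comm fun a b => mul_comm' a b)) (Subgroup.zpowers_le.mpr hzmem) hcard
  refine ⟨n, hn, ?_⟩
  have h3 : n * x * n⁻¹ ∈ Subgroup.zpowers z :=
    hnA ▸ Subgroup.smul_mem_pointwise_smul x (MulAut.conj n) A (Subgroup.mem_zpowers x)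
  obtain ⟨i, hi⟩ := Subgroup.mem_zpowers_iff.mp h3
  have hc : Commute (n * x * n⁻¹) h := hi ▸ ((hyh.pow_left a).zpow_left i)
  show x * (n⁻¹ * h * n) = n⁻¹ * h * n * x
  calc x * (n⁻¹ * h * n) = n⁻¹ * ((n * x * n⁻¹) * h) * n := by group
    _ = n⁻¹ * (h * (n * x * n⁻¹)) * n := by rw [hc.eq]
    _ = n⁻¹ * h * n * x := by group

/-- Two elements centralised by a coprimely acting element and conjugate in `H` are conjugate by an
element of `H` centralised by it. -/
theorem exists_centralizer_conj_of_commute {x : G} (hx : Nat.Coprime (orderOf x) (Nat.card H))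
    {h h' k : G} (hk : k ∈ H) (hh : Commute x h) (hh' : Commute x h') (he : k * h * k⁻¹ = h') :
    ∃ c ∈ H, Commute x c ∧ c * h * c⁻¹ = h' := by
  set A := Subgroup.zpowers x with hA
  set N := H ⊓ Subgroup.centralizer ({h} : Set G) with hN
  have hcop : (Nat.card A).Coprime (Nat.card N) := by
    rw [hA, Nat.card_zpowers]
    exact hx.coprime_dvd_right (Subgroup.card_dvd_of_le inf_le_left)
  have hconj : ∀ a ∈ A, ∀ n ∈ N, a * n * a⁻¹ ∈ N := by
    intro a ha n hn
    obtain ⟨i, rfl⟩ := Subgroup.mem_zpowers_iff.mp ha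
    refine ⟨(inferInstance : H.Normal).conj_mem n hn.1 _, ?_⟩
    have h1 : Commute (x ^ i) h := hh.zpow_left i
    have h2 : Commute n h := Subgroup.mem_centralizer_singleton_iff.mp hn.2
    exact Subgroup.mem_centralizer_singleton_iff.mpr ((h1.mul_left h2).mul_left h1.inv_left)
  have hAN : A ≤ Subgroup.normalizer (N : Set G) := fun a ha n =>
    ⟨hconj a ha n, fun hn => by
      have := hconj a⁻¹ (A.inv_mem ha) _ hn
      simpa [mul_assoc] using this⟩
  obtain ⟨c, hc, hkc⟩ := Coprime.exists_centralizer_mem_coset hAN hcop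
    (Or.inl (Group.isSolvable_of_comm fun a b => mul_comm' a b)) (k := k) (fun a ha => by
      obtain ⟨i, rfl⟩ := Subgroup.mem_zpowers_iff.mp ha
      refine ⟨H.mul_mem (H.inv_mem hk) ((inferInstance : H.Normal).conj_mem k hk _),
        Subgroup.mem_centralizer_singleton_iff.mpr ?_⟩
      have h1 : Commute (x ^ i) h := hh.zpow_left i
      have h2 : Commute (x ^ i) h' := hh'.zpow_left i
      have h3 : (x ^ i * k * (x ^ i)⁻¹) * h = h' * (x ^ i * k * (x ^ i)⁻¹) := by
        calc (x ^ i * k * (x ^ i)⁻¹) * h = x ^ i * k * ((x ^ i)⁻¹ * h) := by group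
          _ = x ^ i * k * (h * (x ^ i)⁻¹) := by rw [h1.inv_left.eq]
          _ = x ^ i * (k * h * k⁻¹) * k * (x ^ i)⁻¹ := by group
          _ = x ^ i * h' * k * (x ^ i)⁻¹ := by rw [he]
          _ = h' * x ^ i * k * (x ^ i)⁻¹ := by rw [h2.eq]
          _ = _ := by group
      calc k⁻¹ * (x ^ i * k * (x ^ i)⁻¹) * h = k⁻¹ * ((x ^ i * k * (x ^ i)⁻¹) * h) := mul_assoc _ _ _
        _ = k⁻¹ * (h' * (x ^ i * k * (x ^ i)⁻¹)) := by rw [h3]
        _ = h * (k⁻¹ * (x ^ i * k * (x ^ i)⁻¹)) := by rw [← he]; group)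
  have hcH : c ∈ H := by simpa using H.mul_mem hk hkc.1
  refine ⟨c, hcH, Subgroup.mem_centralizer_iff.mp hc x (Subgroup.mem_zpowers x), ?_⟩
  have h4 := Subgroup.mem_centralizer_singleton_iff.mp hkc.2
  calc c * h * c⁻¹ = k * (k⁻¹ * c * h) * (k⁻¹ * c)⁻¹ * k⁻¹ := by group
    _ = k * (h * (k⁻¹ * c)) * (k⁻¹ * c)⁻¹ * k⁻¹ := by rw [h4]
    _ = h' := by rw [← he]; group

/-- The conjugation action of `x` on classes of `H`. -/
def classFixed (x : G) (C : ConjClasses H) : Prop :=
  ∀ h : H, ConjClasses.mk h = C →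
    IsConj (⟨x * h * x⁻¹, (inferInstance : H.Normal).conj_mem h h.2 x⟩ : H) h

/-- An element fixes as many irreducible characters as classes of a normal subgroup. -/
theorem card_fixed_conjChar_eq (x : G) :
    Nat.card {θ : IrrCharacter H // conjChar H x (θ : H → ℂ) = (θ : H → ℂ)} =
      Nat.card {C : ConjClasses H // classFixed H x C} :=
  card_fixed_irr_eq_card_fixed_classes
    (fun h : H => (⟨x * h * x⁻¹, (inferInstance : H.Normal).conj_mem h h.2 x⟩ : H))
    (fun a b hab => by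
      obtain ⟨c, rfl⟩ := isConj_iff.mp hab
      exact isConj_iff.mpr ⟨⟨x * c * x⁻¹, (inferInstance : H.Normal).conj_mem c c.2 x⟩,
        Subtype.ext (by simp [mul_assoc])⟩)
    fun θ => isIrrCharacter_conjChar H x θ.2

omit [Finite G] in
theorem classFixed_of_commute {x : G} {w : H} (hw : Commute x (w : G)) :
    classFixed H x (ConjClasses.mk w) := by
  intro h hh
  obtain ⟨c, hc⟩ := isConj_iff.mp (ConjClasses.mk_eq_mk_iff_isConj.mp hh).symm
  refine isConj_iff.mpr ⟨c * ⟨x * (c : G)⁻¹ * x⁻¹,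
    (inferInstance : H.Normal).conj_mem _ (H.inv_mem c.2) x⟩, ?_⟩
  apply Subtype.ext
  rw [← hc]
  simp only [Subgroup.coe_mul, Subgroup.coe_inv]
  calc (c : G) * (x * (c : G)⁻¹ * x⁻¹) * (x * ((c : G) * w * (c : G)⁻¹) * x⁻¹) *
        ((c : G) * (x * (c : G)⁻¹ * x⁻¹))⁻¹ = (c : G) * (x * w * x⁻¹) * (c : G)⁻¹ := by group
    _ = (c : G) * w * (c : G)⁻¹ := by rw [hw.eq, mul_inv_cancel_right]

/-- A class fixed by a coprimely acting element has a member centralised by it. -/
theorem exists_mem_commute_of_classFixed {x : G} (hx : Nat.Coprime (orderOf x) (Nat.card H))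
    {C : ConjClasses H} (hC : classFixed H x C) :
    ∃ w : H, ConjClasses.mk w = C ∧ Commute x (w : G) := by
  obtain ⟨h, rfl⟩ := ConjClasses.mk_surjective C
  obtain ⟨c, hc⟩ := isConj_iff.mp (hC h rfl).symm
  obtain ⟨n, hn, hcomm⟩ := exists_commute_of_fixed_class H hx (h := (h : G)) (k := (c : G)) c.2
    (congrArg Subtype.val hc).symm
  exact ⟨⟨n, hn⟩⁻¹ * h * ⟨n, hn⟩,
    ConjClasses.mk_eq_mk_iff_isConj.mpr (isConj_iff.mpr ⟨⟨n, hn⟩, by group⟩), hcomm⟩

/-- If the elements of `H` centralised by `x` form a commutative subgroup `W`, then `x` fixes exactly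
`|W|` classes of `H`. -/
theorem card_classFixed_eq {x : G} (hx : Nat.Coprime (orderOf x) (Nat.card H)) (W : Subgroup G)
    (hW : H ⊓ Subgroup.centralizer ({x} : Set G) = W) (hWc : ∀ a ∈ W, ∀ b ∈ W, a * b = b * a) :
    Nat.card {C : ConjClasses H // classFixed H x C} = Nat.card W := by
  have hmem : ∀ w : W, (w : G) ∈ H ∧ Commute x (w : G) := fun w => by
    have := hW.ge w.2
    exact ⟨this.1, (Subgroup.mem_centralizer_singleton_iff.mp this.2).symm⟩
  symm
  refine Nat.card_congr (Equiv.ofBijective (fun w : W =>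
    (⟨ConjClasses.mk ⟨w, (hmem w).1⟩, classFixed_of_commute H (hmem w).2⟩ :
      {C : ConjClasses H // classFixed H x C})) ⟨fun v w hvw => ?_, fun C => ?_⟩)
  · obtain ⟨k, hk⟩ := isConj_iff.mp (ConjClasses.mk_eq_mk_iff_isConj.mp (congrArg Subtype.val hvw))
    obtain ⟨c, hcH, hcx, hc⟩ := exists_centralizer_conj_of_commute H hx k.2 (hmem v).2 (hmem w).2
      (congrArg Subtype.val hk)
    have hcW : c ∈ W := hW.le ⟨hcH, Subgroup.mem_centralizer_singleton_iff.mpr hcx.symm⟩
    rw [hWc c hcW v v.2, mul_inv_cancel_right] at hc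
    exact Subtype.ext hc
  · obtain ⟨w, hw, hcomm⟩ := exists_mem_commute_of_classFixed H hx C.2
    exact ⟨⟨w, hW.le ⟨w.2, Subgroup.mem_centralizer_singleton_iff.mpr hcomm.symm⟩⟩, Subtype.ext hw⟩

end Cfsg.Agent.Lib.CharClifford
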