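import Cfsg.Agent.Lib.CharClifford.Correspondence
import Cfsg.Agent.Lib.CharClifford.Extend
import Cfsg.Agent.Lib.Char.Kernel
import Mathlib.Tactic

/-! Induction from a normal subgroup whose inertia quotient is abelian. -/

set_option autoImplicit false

namespace Cfsg.Agent.Lib.CharClifford

open Cfsg Cfsg.Agent.Lib.Char
open scoped ComplexConjugate

universe u

theorem indFun_congr_subgroup {G : Type u} [Group G] [Fintype G] {M H : Subgroup G} (h : M = H)
    (f : M → ℂ) (θ : H → ℂ) (hf : ∀ x : M, f x = θ ⟨x, h ▸ x.2⟩) : indFun M f = indFun H θ := by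
  subst h
  rw [show f = θ from funext hf]

/-- Induction in stages through an intermediate subgroup. -/
theorem indFun_subgroupOf {G : Type u} [Group G] [Fintype G] {H T : Subgroup G} [Fintype T]
    (hHT : H ≤ T) [Fintype (H.subgroupOf T)] (θ : H → ℂ) :
    indFun T (indFun (H.subgroupOf T) fun x => θ ⟨(x : T), x.2⟩) = indFun H θ := by
  rw [indFun_trans T (H.subgroupOf T)]
  refine indFun_congr_subgroup (Subgroup.map_subgroupOf_eq_of_le hHT) _ θ fun x => ?_
  have := ((H.subgroupOf T).equivMapOfInjective T.subtype T.subtype_injective).apply_symm_apply x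
  exact congrArg θ (Subtype.ext (congrArg (Subtype.val : (H.subgroupOf T).map T.subtype → G) this))

/-- With abelian quotient, a character restricting to `e • θ` determines the induced character. -/
theorem indFun_of_abelian_quotient {T : Type u} [Group T] [Fintype T] (K : Subgroup T) [K.Normal]
    [Fintype K] (hab : ∀ x y : T, x * y * x⁻¹ * y⁻¹ ∈ K) {θ : K → ℂ} (hθ : IsIrrCharacter K θ)
    {ψ : T → ℂ} (hψ : IsIrrCharacter T ψ) (e : ℕ) (he : e ≠ 0)
    (hres : (fun k : K => ψ k) = (e : ℂ) • θ) :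
    ∃ C : Finset (IrrCharacter T), indFun K θ = (e : ℂ) • ∑ ξ ∈ C, (ξ : T → ℂ) ∧
      e ^ 2 * C.card = K.index ∧ ∀ ξ ∈ C, (fun k : K => (ξ : T → ℂ) k) = (e : ℂ) • θ := by
  classical
  have hψc := isCharacter_of_isIrr hψ
  have hinv : ∀ g : T, conjChar K g θ = θ := by
    intro g
    funext n
    have h1 := congrFun (conjChar_restrict K (isClassFunction_of_isIrr hψ) g) n
    have h2 := congrFun hres ⟨g * n * g⁻¹, (inferInstance : K.Normal).conj_mem _ n.2 g⟩
    have h3 := congrFun hres n
    simp only [Pi.smul_apply, smul_eq_mul, conjChar_apply] at h1 h2 h3 ⊢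
    exact mul_left_cancel₀ (Nat.cast_ne_zero.mpr he) (h2.symm.trans (h1.trans h3))
  have hall : ∀ ξ : IrrCharacter T, classInner (indFun K θ) (ξ : T → ℂ) ≠ 0 →
      (fun k : K => (ξ : T → ℂ) k) = (e : ℂ) • θ := by
    intro ξ hξ
    -- `e • θ^T = 1^T * ψ`, and the constituents of `1^T` are linear
    have h1 : (e : ℂ) • indFun K θ = indFun K (fun _ => 1) * ψ := by
      rw [← indFun_smul, ← hres, ← indFun_mul_restrict K _ (isClassFunction_of_isIrr hψ)]
      congr 1
      funext k
      simp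
    obtain ⟨a, ha⟩ := isCharacter_eq_sum
      (isCharacter_indFun K (isCharacter_of_isIrr (isIrrCharacter_one (G := K))))
    have h2 : classInner (indFun K (fun _ : K => (1 : ℂ)) * ψ) (ξ : T → ℂ) ≠ 0 := by
      rw [← h1, classInner_smul_left]
      exact mul_ne_zero (Nat.cast_ne_zero.mpr he) hξ
    rw [ha, Finset.sum_mul, classInner_sum_left] at h2
    obtain ⟨β, -, hβ⟩ := Finset.exists_ne_zero_of_sum_ne_zero h2
    rw [smul_mul_assoc, classInner_smul_left] at hβ
    have hβa : (a β : ℂ) ≠ 0 := left_ne_zero_of_mul hβ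
    have hβinner : classInner (fun n : K => (β : T → ℂ) n) (fun _ => 1) ≠ 0 := by
      have h3 : classInner (indFun K (fun _ : K => (1 : ℂ))) (β : T → ℂ) = (a β : ℂ) := by
        rw [ha, classInner_sum_left, Finset.sum_eq_single β]
        · rw [classInner_smul_left, classInner_irr_self β.2, mul_one]
        · intro γ _ hγ
          rw [classInner_smul_left, classInner_irrCharacter, if_neg hγ, mul_zero]
        · intro h; exact absurd (Finset.mem_univ β) h
      rw [classInner_indFun K _ (isClassFunction_of_isIrr β.2)] at h3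
      rw [classInner_conj_symm, h3, Complex.conj_natCast]
      exact hβa
    have hβK := eq_degree_of_over_one K β.2 hβinner
    obtain ⟨β', hβ', hβe⟩ := exists_irr_deflation β.2 K (fun n hn => hβK ⟨n, hn⟩)
    have hβ1 : (β : T → ℂ) 1 = 1 := by
      obtain ⟨d, ρ, hρ, hρe⟩ := hβ'
      have : IsMulCommutative (T ⧸ K) := ⟨⟨fun x y => by
        obtain ⟨x, rfl⟩ := QuotientGroup.mk_surjective x
        obtain ⟨y, rfl⟩ := QuotientGroup.mk_surjective y
        rw [← mul_inv_eq_one, mul_inv_rev, ← mul_assoc, ← QuotientGroup.mk_inv, ← QuotientGroup.mk_inv,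
          ← QuotientGroup.mk_mul, ← QuotientGroup.mk_mul, ← QuotientGroup.mk_mul,
          QuotientGroup.eq_one_iff]
        exact hab x y⟩⟩
      rw [← hβe 1, ← hρe, QuotientGroup.mk_one, Representation.char_one,
        Representation.IsIrreducible.finrank_eq_one_of_isMulCommutative ρ, Nat.cast_one]
    obtain ⟨l, hl⟩ := exists_hom_of_degree_one (isCharacter_of_isIrr β.2) hβ1
    have hirr : IsIrrCharacter T ((β : T → ℂ) * ψ) := by
      have := isIrrCharacter_linear_mul hψ l
      convert this using 1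
      funext g
      simp [hl]
    have hξe : (β : T → ℂ) * ψ = (ξ : T → ℂ) := by
      by_contra hne
      exact hβ (by rw [classInner_irr_ne hirr ξ.2 hne, mul_zero])
    funext k
    rw [← hξe, Pi.mul_apply, hβK k, hβ1, one_mul]
    exact congrFun hres k
  have hcoef : ∀ ξ : IrrCharacter T, classInner (indFun K θ) (ξ : T → ℂ) ≠ 0 →
      classInner (indFun K θ) (ξ : T → ℂ) = (e : ℂ) := fun ξ hξ => by
    rw [classInner_indFun K θ (isClassFunction_of_isIrr ξ.2), hall ξ hξ, classInner_smul_right,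
      classInner_irr_self hθ, Complex.conj_natCast, mul_one]
  set C := Finset.univ.filter fun ξ : IrrCharacter T => classInner (indFun K θ) (ξ : T → ℂ) ≠ 0
    with hC
  have hsum : indFun K θ = (e : ℂ) • ∑ ξ ∈ C, (ξ : T → ℂ) := by
    rw [Finset.smul_sum, eq_sum_classInner_smul (isClassFunction_indFun K θ),
      ← Finset.sum_subset (Finset.subset_univ C) fun ξ _ hξ => by
        rw [show classInner (indFun K θ) (ξ : T → ℂ) = 0 from by
          by_contra h; exact hξ (Finset.mem_filter.mpr ⟨Finset.mem_univ _, h⟩), zero_smul]]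
    exact Finset.sum_congr rfl fun ξ hξ => by rw [hcoef ξ (Finset.mem_filter.mp hξ).2]
  refine ⟨C, hsum, ?_, fun ξ hξ => hall ξ (Finset.mem_filter.mp hξ).2⟩
  have hn := classInner_indFun_self_invariant K hθ hinv
  conv_lhs at hn => rw [hsum, classInner_smul_left, classInner_sum_left]
  rw [Finset.sum_congr rfl (g := fun _ => (e : ℂ)) (fun ξ hξ => by
      rw [← hsum, classInner_conj_symm, hcoef ξ (Finset.mem_filter.mp hξ).2, Complex.conj_natCast]),
    Finset.sum_const, nsmul_eq_mul] at hn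
  have : ((e ^ 2 * C.card : ℕ) : ℂ) = (K.index : ℂ) := by rw [← hn]; push_cast; ring
  exact_mod_cast this

/-- The conclusion transported to the ambient group along the Clifford correspondence. -/
theorem indFun_abelian_inertia {G : Type u} [Group G] [Fintype G] (H T : Subgroup G) [H.Normal]
    [Fintype H] [Fintype T] {θ : H → ℂ} (hθ : IsIrrCharacter H θ) (hT : inertia H θ = T)
    (hHT : H ≤ T) (hab : ∀ x ∈ T, ∀ y ∈ T, x * y * x⁻¹ * y⁻¹ ∈ H) {ψ : T → ℂ}
    (hψ : IsIrrCharacter T ψ) (e : ℕ) (he : e ≠ 0) (hres : resLe hHT ψ = (e : ℂ) • θ) :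
    ∃ C : Finset (G → ℂ), (∀ χ ∈ C, IsIrrCharacter G χ) ∧ e ^ 2 * C.card = H.relIndex T ∧
      indFun H θ = (e : ℂ) • ∑ χ ∈ C, χ ∧ ∀ χ ∈ C, χ 1 = (T.index : ℂ) * e * θ 1 := by
  classical
  let K : Subgroup T := H.subgroupOf T
  let θ' : K → ℂ := fun x => θ ⟨(x : T), x.2⟩
  let eqv : K ≃* H := Subgroup.subgroupOfEquivOfLe hHT
  have hθ' : IsIrrCharacter K θ' := by
    have := isIrrCharacter_comp_equiv eqv hθ
    exact this
  have := Fintype.ofFinite K
  obtain ⟨C, hsum, hcard, hCres⟩ := indFun_of_abelian_quotient K (θ := θ')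
    (fun x y => hab x x.2 y y.2) hθ' hψ e he
    (funext fun k => congrFun hres ⟨(k : T), k.2⟩)
  have hover : ∀ ξ ∈ C, classInner (resLe hHT (ξ : T → ℂ)) θ ≠ 0 := by
    intro ξ hξ
    have h1 : resLe hHT (ξ : T → ℂ) = (e : ℂ) • θ := by
      funext n
      exact congrFun (hCres ξ hξ) ⟨⟨n, hHT n.2⟩, n.2⟩
    rw [h1, classInner_smul_left, classInner_irr_self hθ, mul_one]
    exact Nat.cast_ne_zero.mpr he
  have hinj : Set.InjOn (fun ξ : IrrCharacter T => indFun T (ξ : T → ℂ)) C := by
    intro ξ hξ η hη h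
    exact Subtype.ext ((indFun_correspondent H hθ T hT hHT η.2 (hover η hη)).2 ξ ξ.2 (hover ξ hξ) h)
  refine ⟨C.image fun ξ : IrrCharacter T => indFun T (ξ : T → ℂ), fun χ hχ => ?_, ?_, ?_, fun χ hχ => ?_⟩
  · obtain ⟨ξ, hξ, rfl⟩ := Finset.mem_image.mp hχ
    exact (indFun_correspondent H hθ T hT hHT ξ.2 (hover ξ hξ)).1
  · rw [Finset.card_image_of_injOn hinj]
    exact hcard
  · rw [Finset.sum_image hinj, ← indFun_sum, ← indFun_smul, ← hsum, indFun_subgroupOf hHT]
  · obtain ⟨ξ, hξ, rfl⟩ := Finset.mem_image.mp hχ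
    rw [indFun_one]
    have h1 := congrFun (hCres ξ hξ) 1
    simp only [Pi.smul_apply, smul_eq_mul, OneMemClass.coe_one] at h1
    rw [h1]
    show (T.index : ℂ) * ((e : ℂ) * θ 1) = _
    ring

end Cfsg.Agent.Lib.CharClifford
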