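import Cfsg.Agent.Lib.Char.Linear
import Mathlib.GroupTheory.FiniteAbelian.Duality
import Mathlib.GroupTheory.NoncommCoprod
import Mathlib.RingTheory.RootsOfUnity.Complex
import Mathlib.Analysis.Complex.Polynomial.Basic
import Mathlib.Tactic

/-! Linear characters of an internal direct product `W₁ ⊔ W₂`. -/

set_option autoImplicit false

namespace Cfsg.Agent.Lib.CharClifford

open Cfsg Cfsg.Agent.Lib.Char
open scoped ComplexConjugate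

variable {G : Type*} [Group G] {W₁ W₂ : Subgroup G}

/-- Every element of the join is a product. -/
theorem exists_mul_of_mem_sup (hcomm : ∀ a ∈ W₁, ∀ b ∈ W₂, a * b = b * a) {w : G}
    (hw : w ∈ W₁ ⊔ W₂) : ∃ a ∈ W₁, ∃ b ∈ W₂, a * b = w := by
  have h := MonoidHom.noncommCoprod_range W₁.subtype W₂.subtype fun a b => hcomm a a.2 b b.2
  rw [Subgroup.range_subtype, Subgroup.range_subtype] at h
  obtain ⟨⟨a, b⟩, hab⟩ := (h.symm ▸ hw : w ∈ (MonoidHom.noncommCoprod W₁.subtype W₂.subtype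
    fun a b => hcomm a a.2 b b.2).range)
  exact ⟨a, a.2, b, b.2, hab⟩

theorem mul_injective (hdisj : W₁ ⊓ W₂ = ⊥) {a a' b b' : G} (ha : a ∈ W₁) (ha' : a' ∈ W₁)
    (hb : b ∈ W₂) (hb' : b' ∈ W₂) (h : a * b = a' * b') : a = a' ∧ b = b' := by
  have h1 : a'⁻¹ * a = b' * b⁻¹ := by
    rw [eq_mul_inv_iff_mul_eq, mul_assoc, h]; group
  have h2 : a'⁻¹ * a ∈ W₁ ⊓ W₂ :=
    ⟨W₁.mul_mem (W₁.inv_mem ha') ha, h1 ▸ W₂.mul_mem hb' (W₂.inv_mem hb)⟩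
  rw [hdisj, Subgroup.mem_bot, inv_mul_eq_one] at h2
  subst h2
  exact ⟨rfl, mul_left_cancel h⟩

/-- A homomorphism on `W₁ ⊔ W₂` is determined by its values on the two factors. -/
theorem hom_ext_sup {M : Type*} [Monoid M] (hcomm : ∀ a ∈ W₁, ∀ b ∈ W₂, a * b = b * a)
    {f g : ↥(W₁ ⊔ W₂) →* M} (h₁ : ∀ w : ↥(W₁ ⊔ W₂), (w : G) ∈ W₁ → f w = g w)
    (h₂ : ∀ w : ↥(W₁ ⊔ W₂), (w : G) ∈ W₂ → f w = g w) : f = g := by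
  ext w
  obtain ⟨a, ha, b, hb, hab⟩ := exists_mul_of_mem_sup hcomm w.2
  rw [show w = ⟨a, Subgroup.mem_sup_left ha⟩ * ⟨b, Subgroup.mem_sup_right hb⟩ from
    Subtype.ext hab.symm, map_mul, map_mul, h₁ ⟨a, _⟩ ha, h₂ ⟨b, _⟩ hb]

/-- The projection onto the first factor. -/
noncomputable def projLeft (hdisj : W₁ ⊓ W₂ = ⊥) (hcomm : ∀ a ∈ W₁, ∀ b ∈ W₂, a * b = b * a) :
    ↥(W₁ ⊔ W₂) →* ↥(W₁ ⊔ W₂) :=
  MonoidHom.mk' (fun w => ⟨(exists_mul_of_mem_sup hcomm w.2).choose,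
      Subgroup.mem_sup_left (exists_mul_of_mem_sup hcomm w.2).choose_spec.1⟩) fun v w => by
    obtain ⟨hv1, bv, hv2, hv⟩ := (exists_mul_of_mem_sup hcomm v.2).choose_spec
    obtain ⟨hw1, bw, hw2, hw⟩ := (exists_mul_of_mem_sup hcomm w.2).choose_spec
    obtain ⟨hp1, bp, hp2, hp⟩ := (exists_mul_of_mem_sup hcomm (v * w).2).choose_spec
    refine Subtype.ext ((mul_injective hdisj hp1 (W₁.mul_mem hv1 hw1) hp2 (W₂.mul_mem hv2 hw2) ?_).1)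
    rw [hp, Subgroup.coe_mul]
    conv_lhs => rw [← hv, ← hw]
    rw [mul_assoc, ← mul_assoc bv, ← hcomm _ hw1 _ hv2]
    group

theorem projLeft_spec (hdisj : W₁ ⊓ W₂ = ⊥) (hcomm : ∀ a ∈ W₁, ∀ b ∈ W₂, a * b = b * a)
    (w : ↥(W₁ ⊔ W₂)) : (projLeft hdisj hcomm w : G) ∈ W₁ ∧
      ((projLeft hdisj hcomm w)⁻¹ * w : ↥(W₁ ⊔ W₂)).1 ∈ W₂ := by
  obtain ⟨h1, b, h2, h⟩ := (exists_mul_of_mem_sup hcomm w.2).choose_spec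
  refine ⟨h1, ?_⟩
  have : ((projLeft hdisj hcomm w)⁻¹ * w : ↥(W₁ ⊔ W₂)).1 = b := by
    show (exists_mul_of_mem_sup hcomm w.2).choose⁻¹ * (w : G) = b
    conv_lhs => arg 2; rw [← h]
    group
  rw [this]; exact h2

theorem projLeft_of_left (hdisj : W₁ ⊓ W₂ = ⊥) (hcomm : ∀ a ∈ W₁, ∀ b ∈ W₂, a * b = b * a)
    {w : ↥(W₁ ⊔ W₂)} (hw : (w : G) ∈ W₁) : projLeft hdisj hcomm w = w := by
  obtain ⟨h1, h2⟩ := projLeft_spec hdisj hcomm w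
  have h3 : ((projLeft hdisj hcomm w)⁻¹ * w : ↥(W₁ ⊔ W₂)).1 ∈ W₁ ⊓ W₂ :=
    ⟨W₁.mul_mem (W₁.inv_mem h1) hw, h2⟩
  rw [hdisj, Subgroup.mem_bot] at h3
  exact inv_mul_eq_one.mp (Subtype.ext h3)

theorem projLeft_of_right (hdisj : W₁ ⊓ W₂ = ⊥) (hcomm : ∀ a ∈ W₁, ∀ b ∈ W₂, a * b = b * a)
    {w : ↥(W₁ ⊔ W₂)} (hw : (w : G) ∈ W₂) : projLeft hdisj hcomm w = 1 := by
  obtain ⟨h1, h2⟩ := projLeft_spec hdisj hcomm w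
  have h3 : (projLeft hdisj hcomm w : G) ∈ W₁ ⊓ W₂ := by
    refine ⟨h1, ?_⟩
    have := W₂.mul_mem hw (W₂.inv_mem h2)
    simpa using this
  rw [hdisj, Subgroup.mem_bot] at h3
  exact Subtype.ext h3

/-- Every linear character is a product of one trivial on `W₂` and one trivial on `W₁`. -/
theorem exists_hom_split (hdisj : W₁ ⊓ W₂ = ⊥) (hcomm : ∀ a ∈ W₁, ∀ b ∈ W₂, a * b = b * a)
    {M : Type*} [CommGroup M] (ω : ↥(W₁ ⊔ W₂) →* M) :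
    ∃ φ ψ : ↥(W₁ ⊔ W₂) →* M, (∀ w : ↥(W₁ ⊔ W₂), (w : G) ∈ W₂ → φ w = 1) ∧
      (∀ w : ↥(W₁ ⊔ W₂), (w : G) ∈ W₁ → ψ w = 1) ∧ ω = φ * ψ := by
  refine ⟨ω.comp (projLeft hdisj hcomm), ω * (ω.comp (projLeft hdisj hcomm))⁻¹, fun w hw => ?_,
    fun w hw => ?_, ?_⟩
  · rw [MonoidHom.comp_apply, projLeft_of_right hdisj hcomm hw, map_one]
  · rw [MonoidHom.mul_apply, MonoidHom.inv_apply, MonoidHom.comp_apply,
      projLeft_of_left hdisj hcomm hw, mul_inv_cancel]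
  · rw [mul_comm ω, mul_inv_cancel_left]

theorem hom_split_unique (hcomm : ∀ a ∈ W₁, ∀ b ∈ W₂, a * b = b * a) {M : Type*} [CommGroup M]
    {φ φ' ψ ψ' : ↥(W₁ ⊔ W₂) →* M}
    (hφ : ∀ w : ↥(W₁ ⊔ W₂), (w : G) ∈ W₂ → φ w = 1) (hφ' : ∀ w : ↥(W₁ ⊔ W₂), (w : G) ∈ W₂ → φ' w = 1)
    (hψ : ∀ w : ↥(W₁ ⊔ W₂), (w : G) ∈ W₁ → ψ w = 1) (hψ' : ∀ w : ↥(W₁ ⊔ W₂), (w : G) ∈ W₁ → ψ' w = 1)
    (h : φ * ψ = φ' * ψ') : φ = φ' ∧ ψ = ψ' := by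
  have h1 : φ = φ' := hom_ext_sup hcomm (fun w hw => by
    simpa [hψ w hw, hψ' w hw] using DFunLike.congr_fun h w) fun w hw => by rw [hφ w hw, hφ' w hw]
  subst h1
  exact ⟨rfl, mul_left_cancel h⟩

/-- The function `(1 - φ)(1 - ψ)`. -/
noncomputable def tiFun (φ ψ : ↥(W₁ ⊔ W₂) →* ℂˣ) : ↥(W₁ ⊔ W₂) → ℂ :=
  fun w => 1 - (φ w : ℂ) - (ψ w : ℂ) + (φ w : ℂ) * (ψ w : ℂ)

theorem tiFun_eq_zero {φ ψ : ↥(W₁ ⊔ W₂) →* ℂˣ}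
    (hφ : ∀ w : ↥(W₁ ⊔ W₂), (w : G) ∈ W₂ → φ w = 1) (hψ : ∀ w : ↥(W₁ ⊔ W₂), (w : G) ∈ W₁ → ψ w = 1)
    {w : ↥(W₁ ⊔ W₂)} (hw : (w : G) ∈ W₁ ∨ (w : G) ∈ W₂) : tiFun φ ψ w = 0 := by
  rcases hw with h | h
  · simp [tiFun, hψ w h]
  · simp [tiFun, hφ w h]

theorem hom_conj [Finite G] (ω : ↥(W₁ ⊔ W₂) →* ℂˣ) (w : ↥(W₁ ⊔ W₂)) :
    conj (ω w : ℂ) = ((ω w)⁻¹ : ℂˣ) := by
  rw [Units.val_inv_eq_inv_val]
  refine (Complex.inv_eq_conj ?_).symm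
  refine norm_eq_one_of_pow_orderOf (g := w) ?_
  rw [← Units.val_pow_eq_pow_val, ← map_pow, pow_orderOf_eq_one, map_one, Units.val_one]

open scoped Classical in
theorem classInner_linear [Fintype G] [Fintype ↥(W₁ ⊔ W₂)] (ω ω' : ↥(W₁ ⊔ W₂) →* ℂˣ) :
    classInner (fun w => (ω w : ℂ)) (fun w => (ω' w : ℂ)) = if ω = ω' then 1 else 0 := by
  rw [classInner_irr (isIrrCharacter_linear ω) (isIrrCharacter_linear ω')]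
  exact if_congr ⟨fun h => MonoidHom.ext fun w => Units.ext (congrFun h w), fun h => h ▸ rfl⟩ rfl rfl

theorem tiFun_eq (φ ψ : ↥(W₁ ⊔ W₂) →* ℂˣ) :
    tiFun φ ψ = (fun w => ((1 : ↥(W₁ ⊔ W₂) →* ℂˣ) w : ℂ)) - (fun w => (φ w : ℂ)) -
      (fun w => (ψ w : ℂ)) + fun w => ((φ * ψ) w : ℂ) := by
  funext w; simp [tiFun]

end Cfsg.Agent.Lib.CharClifford
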