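import Cfsg.Agent.Lib.CharClifford.Basic
import Cfsg.Agent.Lib.Char.Equiv
import Cfsg.Agent.Lib.Char.Induced
import Mathlib.Tactic

/-!
Matrix representations over the complex numbers: existence from characters, conjugacy from traces,
and Schur's lemma for block scalar matrices.
-/

set_option autoImplicit false

open scoped Kronecker ComplexConjugate

namespace Cfsg.Agent.Lib.CharClifford

open Cfsg Cfsg.Agent.Lib.Char Matrix

universe u

variable {G : Type u} [Group G]
variable {n : Type} [Fintype n] [DecidableEq n]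

/-- The representation on column vectors given by a matrix representation. -/
noncomputable def toRep (σ : G →* Matrix n n ℂ) : Representation ℂ G (n → ℂ) :=
  (Matrix.toLinAlgEquiv' (R := ℂ) (n := n)).toAlgHom.toMonoidHom.comp σ

theorem toRep_apply (σ : G →* Matrix n n ℂ) (g : G) (v : n → ℂ) :
    toRep σ g v = σ g *ᵥ v := rfl

theorem character_toRep (σ : G →* Matrix n n ℂ) (g : G) :
    (toRep σ).character g = (σ g).trace := by
  rw [Representation.character, LinearMap.trace_eq_matrix_trace ℂ (Pi.basisFun ℂ n)]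
  congr 1
  ext i j
  rw [LinearMap.toMatrix_apply, Pi.basisFun_apply, Pi.basisFun_repr, toRep_apply,
    Matrix.mulVec_single_one]
  rfl

theorem isCharacter_trace [Finite G] (σ : G →* Matrix n n ℂ) :
    IsCharacter G fun g => (σ g).trace := by
  have h := isCharacter_character (toRep σ)
  rwa [funext (character_toRep σ)] at h

theorem mul_inv_rep (σ : G →* Matrix n n ℂ) (g : G) : σ g * σ g⁻¹ = 1 := by
  rw [← map_mul, mul_inv_cancel, map_one]

theorem inv_mul_rep (σ : G →* Matrix n n ℂ) (g : G) : σ g⁻¹ * σ g = 1 := by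
  rw [← map_mul, inv_mul_cancel, map_one]

/-- Matrix representations with equal traces are conjugate. -/
theorem exists_conj [Finite G] (σ σ' : G →* Matrix n n ℂ)
    (h : ∀ g, (σ g).trace = (σ' g).trace) :
    ∃ P : (Matrix n n ℂ)ˣ, ∀ g, σ' g = (P : Matrix n n ℂ) * σ g * ((P⁻¹ : (Matrix n n ℂ)ˣ) : Matrix n n ℂ) := by
  obtain ⟨e⟩ := equiv_of_character_eq _ (toRep σ) (toRep σ') rfl
    (funext fun g => by rw [character_toRep, character_toRep, h])
  let A := LinearMap.toMatrix' e.toLinearEquiv.toLinearMap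
  let B := LinearMap.toMatrix' e.toLinearEquiv.symm.toLinearMap
  have hAB : A * B = 1 := by
    rw [← LinearMap.toMatrix'_comp, LinearEquiv.comp_symm, LinearMap.toMatrix'_id]
  have hBA : B * A = 1 := by
    rw [← LinearMap.toMatrix'_comp, LinearEquiv.symm_comp, LinearMap.toMatrix'_id]
  refine ⟨⟨A, B, hAB, hBA⟩, fun g => ?_⟩
  have h1 : σ' g * A = A * σ g := by
    refine Matrix.ext_of_mulVec_single fun i => ?_
    rw [← Matrix.mulVec_mulVec, ← Matrix.mulVec_mulVec]
    simp only [A, LinearMap.toMatrix'_mulVec]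
    exact (LinearMap.congr_fun (Representation.Equiv.toIntertwiningMap e |>.isIntertwining' g)
      (Pi.single i 1)).symm
  show σ' g = A * σ g * B
  rw [← h1, mul_assoc, hAB, mul_one]

/-- Only scalar matrices commute with a matrix representation of irreducible trace. -/
theorem scalar_of_irr [Finite G] (σ : G →* Matrix n n ℂ)
    (h : IsIrrCharacter G fun g => (σ g).trace) (X : Matrix n n ℂ)
    (hX : ∀ g, X * σ g = σ g * X) : ∃ c : ℂ, X = c • 1 := by
  haveI : (toRep σ).IsIrreducible :=
    isIrreducible_of_isIrrCharacter (toRep σ) (by rwa [funext (character_toRep σ)])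
  let e := Matrix.toLinAlgEquiv' (R := ℂ) (n := n)
  obtain ⟨c, hc⟩ := exists_smul_of_commute (toRep σ) (e X) fun g => by
    show e X * e (σ g) = e (σ g) * e X
    rw [← map_mul, ← map_mul, hX]
  exact ⟨c, e.injective (by rw [hc, map_smul, map_one])⟩

/-- An irreducible matrix representation pairs every nonzero matrix with some image. -/
theorem eq_zero_of_trace_mul [Fintype G] (σ : G →* Matrix n n ℂ)
    (h : IsIrrCharacter G fun g => (σ g).trace) (Z : Matrix n n ℂ)
    (hZ : ∀ g, (Z * σ g).trace = 0) : Z = 0 := by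
  ext i j
  rw [Matrix.zero_apply]
  have hav : ∀ E : Matrix n n ℂ, ∃ c : ℂ, ∑ g, σ g * E * σ g⁻¹ = c • 1 ∧
      c * (Fintype.card n : ℂ) = (Fintype.card G : ℂ) * E.trace := by
    intro E
    obtain ⟨c, hc⟩ := scalar_of_irr σ h (∑ g, σ g * E * σ g⁻¹) fun x => by
      rw [Finset.sum_mul, Finset.mul_sum]
      refine (Fintype.sum_equiv (Equiv.mulLeft x) _ _ fun g => ?_).symm
      rw [Equiv.coe_mulLeft, _root_.mul_inv_rev, map_mul, map_mul]
      simp only [mul_assoc]
      rw [inv_mul_rep, mul_one]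
    refine ⟨c, hc, ?_⟩
    have h1 := congrArg Matrix.trace hc
    rw [Matrix.trace_sum, Matrix.trace_smul, Matrix.trace_one, smul_eq_mul,
      Finset.sum_congr rfl fun g _ => by
        rw [Matrix.trace_mul_cycle, inv_mul_rep, one_mul], Finset.sum_const, Finset.card_univ,
      nsmul_eq_mul] at h1
    exact h1.symm
  -- expand `Z` through the averaged elementary matrices
  have hn : (Fintype.card n : ℂ) ≠ 0 := Nat.cast_ne_zero.mpr (Fintype.card_pos_iff.mpr ⟨i⟩).ne'
  have h0 : ∑ g, (Z * σ g).trace * σ g⁻¹ i j = 0 := by simp [hZ]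
  have key : ∀ q k : n, ∑ g, σ g⁻¹ i j * σ g q k =
      if q = j ∧ k = i then (Fintype.card G : ℂ) / Fintype.card n else 0 := by
    intro q k
    obtain ⟨c, hc, hc'⟩ := hav (Matrix.single k i 1)
    have h1 := congrFun (congrFun hc q) j
    simp only [Matrix.sum_apply, Matrix.smul_apply, Matrix.one_apply, smul_eq_mul] at h1
    rw [Finset.sum_congr rfl fun g _ => mul_comm (σ g⁻¹ i j) (σ g q k)]
    have h2 : ∀ g, (σ g * Matrix.single k i (1 : ℂ) * σ g⁻¹ : Matrix n n ℂ) q j = σ g q k * σ g⁻¹ i j := fun g => by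
      rw [Matrix.mul_apply, Finset.sum_eq_single i]
      · rw [Matrix.mul_single_apply_same, mul_one]
      · intro b _ hb; rw [Matrix.mul_single_apply_of_ne _ _ _ _ _ hb, zero_mul]
      · exact fun h => absurd (Finset.mem_univ i) h
    simp only [h2] at h1
    rw [h1]
    by_cases hki : k = i
    · subst hki
      rw [Matrix.trace_single_eq_same, mul_one] at hc'
      by_cases hqj : q = j
      · rw [if_pos hqj, if_pos ⟨hqj, rfl⟩, mul_one, eq_div_iff hn, hc']
      · rw [if_neg hqj, if_neg fun h => hqj h.1, mul_zero]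
    · rw [Matrix.trace_single_eq_of_ne _ _ _ hki, mul_zero, mul_eq_zero, or_iff_left hn] at hc'
      rw [hc', zero_mul, if_neg fun h => hki h.2]
  simp only [Matrix.trace, Matrix.diag, Matrix.mul_apply, Finset.sum_mul] at h0
  rw [Finset.sum_comm] at h0
  simp only [Finset.sum_comm (γ := G)] at h0
  simp only [mul_assoc, ← Finset.mul_sum] at h0
  have h3 : ∀ p q : n, ∑ g, σ g q p * σ g⁻¹ i j =
      if q = j ∧ p = i then (Fintype.card G : ℂ) / Fintype.card n else 0 := fun p q => by
    rw [← key q p]; exact Finset.sum_congr rfl fun g _ => mul_comm _ _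
  simp only [h3, mul_ite, mul_zero, ite_and, Finset.sum_ite_eq', Finset.mem_univ, if_true] at h0
  exact (mul_eq_zero.mp h0).resolve_right (div_ne_zero (Nat.cast_ne_zero.mpr Fintype.card_ne_zero) hn)

/-- A representation with a given character and a given restriction. -/
theorem exists_rep_extending [Finite G] {χ : G → ℂ} (hχ : IsCharacter G χ) {M : Type u} [Group M]
    [Finite M] (f : M →* G) (σ' : M →* Matrix n n ℂ) (h : ∀ x, (σ' x).trace = χ (f x)) :
    ∃ ρ : G →* Matrix n n ℂ, (∀ g, (ρ g).trace = χ g) ∧ ∀ x, ρ (f x) = σ' x := by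
  obtain ⟨k, ρ₀, rfl⟩ := hχ
  have hk : Fintype.card n = k := by
    have h1 := h 1
    rw [map_one, map_one, Matrix.trace_one, Representation.char_one,
      Module.finrank_fintype_fun_eq_card, Fintype.card_fin] at h1
    exact_mod_cast h1
  let b : Module.Basis n ℂ (Fin k → ℂ) :=
    (Pi.basisFun ℂ (Fin k)).reindex (Fintype.equivFinOfCardEq hk).symm
  let ρ1 : G →* Matrix n n ℂ := (LinearMap.toMatrixAlgEquiv b).toAlgHom.toMonoidHom.comp ρ₀
  have ht : ∀ g, (ρ1 g).trace = ρ₀.character g := fun g => by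
    rw [Representation.character, LinearMap.trace_eq_matrix_trace ℂ b]
    rfl
  obtain ⟨P, hP⟩ := exists_conj (ρ1.comp f) σ' fun x => by rw [h, ← ht]; rfl
  refine ⟨{ toFun := fun g => (P : Matrix n n ℂ) * ρ1 g * ((P⁻¹ : (Matrix n n ℂ)ˣ) : Matrix n n ℂ)
            map_one' := by rw [map_one, mul_one, Units.mul_inv]
            map_mul' := fun g g' => by
              rw [map_mul]
              simp only [mul_assoc, Units.inv_mul_cancel_left] },
    fun g => ?_, fun x => (hP x).symm⟩
  show Matrix.trace ((P : Matrix n n ℂ) * ρ1 g * ((P⁻¹ : (Matrix n n ℂ)ˣ) : Matrix n n ℂ)) = _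
  rw [Matrix.trace_units_conj, ht]

variable {a b : Type} [Fintype a] [DecidableEq a] [Fintype b] [DecidableEq b]

/-- Blockwise Schur lemma. -/
theorem exists_kron_one_of_commute [Finite G] (σ : G →* Matrix n n ℂ)
    (h : IsIrrCharacter G fun g => (σ g).trace) (X : Matrix (b × n) (a × n) ℂ)
    (hX : ∀ g, X * ((1 : Matrix a a ℂ) ⊗ₖ σ g) = ((1 : Matrix b b ℂ) ⊗ₖ σ g) * X) :
    ∃ A : Matrix b a ℂ, X = A ⊗ₖ (1 : Matrix n n ℂ) := by
  have hsc : ∀ i j, ∃ c : ℂ, (Matrix.of fun p q => X (i, p) (j, q)) = c • (1 : Matrix n n ℂ) := by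
    intro i j
    refine scalar_of_irr σ h _ fun g => ?_
    ext p q
    have h1 := congrFun (congrFun (hX g) (i, p)) (j, q)
    simpa [Matrix.mul_apply, Fintype.sum_prod_type, Matrix.one_apply] using h1
  choose A hA using hsc
  refine ⟨Matrix.of A, ?_⟩
  ext ⟨i, p⟩ ⟨j, q⟩
  have := congrFun (congrFun (hA i j) p) q
  simpa [Matrix.one_apply] using this

/-- The right factor of a nonzero Kronecker product is determined up to a scalar. -/
theorem eq_smul_of_kron_eq {A A' : Matrix b a ℂ} {B B' : Matrix n n ℂ}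
    (h : A ⊗ₖ B = A' ⊗ₖ B') (hne : A ⊗ₖ B ≠ 0) : ∃ c : ℂ, c ≠ 0 ∧ B' = c • B := by
  obtain ⟨i, j, hij⟩ : ∃ i j, A' i j ≠ 0 := by
    by_contra hc
    push Not at hc
    apply hne
    rw [h, show A' = 0 from Matrix.ext hc, Matrix.zero_kronecker]
  have hB : B' = (A i j / A' i j) • B := by
    ext p q
    have h1 := congrFun (congrFun h (i, p)) (j, q)
    simp only [Matrix.kroneckerMap_apply] at h1
    rw [Matrix.smul_apply, smul_eq_mul, div_mul_eq_mul_div, eq_div_iff hij, h1]
    ring
  refine ⟨_, fun h0 => hne ?_, hB⟩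
  rw [h, hB, h0, zero_smul, Matrix.kronecker_zero]

theorem left_ne_zero_of_kron {A : Matrix b a ℂ} {B : Matrix n n ℂ} (h : A ⊗ₖ B ≠ 0) : A ≠ 0 :=
  fun h0 => h (by rw [h0, Matrix.zero_kronecker])

end Cfsg.Agent.Lib.CharClifford
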